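import Mathlib

/-!
# Lifting the relations of `SL₂(k)` to a central extension by a group of order prime to `p` (helper135)
-/

set_option autoImplicit false

namespace Cfsg.Agent.H135.RK

open Matrix

section SL

variable {k : Type*} [Field k]

/-- upper unipotent -/
def uu (a : k) : SpecialLinearGroup (Fin 2) k := ⟨!![1, a; 0, 1], by simp⟩

/-- lower unipotent -/
def ll (a : k) : SpecialLinearGroup (Fin 2) k := ⟨!![1, 0; a, 1], by simp⟩

theorem uu_add (a b : k) : uu (a + b) = uu a * uu b := by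
  apply Subtype.ext
  show !![1, a + b; 0, 1] = !![1, a; 0, 1] * !![1, b; 0, 1]
  ext i j
  fin_cases i <;> fin_cases j <;> simp [Matrix.mul_apply, Fin.sum_univ_two, add_comm]

theorem ll_add (a b : k) : ll (a + b) = ll a * ll b := by
  apply Subtype.ext
  show !![1, 0; a + b, 1] = !![1, 0; a, 1] * !![1, 0; b, 1]
  ext i j
  fin_cases i <;> fin_cases j <;> simp [Matrix.mul_apply, Fin.sum_univ_two]

theorem uu_zero : uu (0 : k) = 1 := by
  apply Subtype.ext
  show !![1, (0 : k); 0, 1] = 1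
  exact Matrix.one_fin_two.symm

theorem ll_zero : ll (0 : k) = 1 := by
  apply Subtype.ext
  show !![1, 0; (0 : k), 1] = 1
  exact Matrix.one_fin_two.symm

theorem uu_inj {a b : k} (h : uu a = uu b) : a = b := by
  have := congrArg (fun M : SpecialLinearGroup (Fin 2) k => M.1 0 1) h
  simpa [uu] using this

theorem ll_inj {a b : k} (h : ll a = ll b) : a = b := by
  have := congrArg (fun M : SpecialLinearGroup (Fin 2) k => M.1 1 0) h
  simpa [ll] using this

theorem conj_uu_zero (M : SpecialLinearGroup (Fin 2) k) (h : M.1 1 0 = 0) (t : k) :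
    M * uu t = uu (M.1 0 0 ^ 2 * t) * M := by
  have hd := M.2
  rw [Matrix.det_fin_two] at hd
  apply Subtype.ext
  show M.1 * !![1, t; 0, 1] = !![1, M.1 0 0 ^ 2 * t; 0, 1] * M.1
  ext i j
  fin_cases i <;> fin_cases j
  · simp [Matrix.mul_apply, Fin.sum_univ_two, h]
  · simp only [Matrix.mul_apply, Fin.sum_univ_two]
    simp
    rw [h, mul_zero, sub_zero] at hd
    linear_combination (-(M.1 0 0 * t)) * hd
  · simp [Matrix.mul_apply, Fin.sum_univ_two, h]
  · simp [Matrix.mul_apply, Fin.sum_univ_two, h]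

theorem aux_ne (a b c d t x : k) (hd : a * d - b * c = 1) (hx : x * c = a) :
    !![a, b; c, d] * !![1, t; 0, 1] = !![1, x; 0, 1] * !![1, 0; -c ^ 2 * t, 1] * !![1, -x; 0, 1] * !![a, b; c, d] := by
  subst hx
  simp only [Matrix.mul_fin_two]
  ext i j
  fin_cases i <;> fin_cases j
  · simp
    ring
  · simp
    linear_combination (-(x * c * t)) * hd
  · simp
    ring
  · simp
    linear_combination (-(c * t)) * hd

theorem conj_uu_ne (M : SpecialLinearGroup (Fin 2) k) (h : M.1 1 0 ≠ 0) (t : k) :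
    M * uu t = uu (M.1 0 0 / M.1 1 0) * ll (-(M.1 1 0) ^ 2 * t) * uu (-(M.1 0 0 / M.1 1 0)) * M := by
  have hd := M.2
  rw [Matrix.det_fin_two] at hd
  apply Subtype.ext
  show M.1 * !![1, t; 0, 1] = !![1, M.1 0 0 / M.1 1 0; 0, 1] * !![1, 0; -(M.1 1 0) ^ 2 * t, 1] *
    !![1, -(M.1 0 0 / M.1 1 0); 0, 1] * M.1
  have e : M.1 = !![M.1 0 0, M.1 0 1; M.1 1 0, M.1 1 1] := Matrix.eta_fin_two _
  have h1 := aux_ne (M.1 0 0) (M.1 0 1) (M.1 1 0) (M.1 1 1) t (M.1 0 0 / M.1 1 0) hd (div_mul_cancel₀ _ h)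
  rw [← e] at h1
  exact h1

theorem ww_eq {f : k} (hf : f ≠ 0) :
    (uu f * ll (-f⁻¹) * uu f).1 = !![0, f; -f⁻¹, 0] := by
  show !![1, f; 0, 1] * !![1, 0; -f⁻¹, 1] * !![1, f; 0, 1] = _
  have h1 : f * f⁻¹ = 1 := mul_inv_cancel₀ hf
  simp only [Matrix.mul_fin_two, mul_one, mul_zero, add_zero, zero_add, zero_mul, one_mul, mul_neg, neg_mul, h1,
    inv_mul_cancel₀ hf, add_neg_cancel, neg_add_cancel]

theorem rel_uu {f : k} (hf : f ≠ 0) (g : k) :
    uu f * ll (-f⁻¹) * uu f * uu g = ll (-(f⁻¹ ^ 2 * g)) * (uu f * ll (-f⁻¹) * uu f) := by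
  apply Subtype.ext
  show (uu f * ll (-f⁻¹) * uu f).1 * !![1, g; 0, 1] =
    !![1, 0; -(f⁻¹ ^ 2 * g), 1] * (uu f * ll (-f⁻¹) * uu f).1
  rw [ww_eq hf]
  have h1 : f * f⁻¹ = 1 := mul_inv_cancel₀ hf
  simp only [Matrix.mul_fin_two, mul_one, mul_zero, add_zero, zero_add, zero_mul, one_mul, mul_neg, neg_mul]
  have : f⁻¹ * g = f⁻¹ ^ 2 * g * f := by linear_combination (-(f⁻¹ * g)) * h1
  rw [this, neg_zero]

theorem rel_ll {f : k} (hf : f ≠ 0) (g : k) :
    uu f * ll (-f⁻¹) * uu f * ll g = uu (-(f ^ 2 * g)) * (uu f * ll (-f⁻¹) * uu f) := by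
  apply Subtype.ext
  show (uu f * ll (-f⁻¹) * uu f).1 * !![1, 0; g, 1] =
    !![1, -(f ^ 2 * g); 0, 1] * (uu f * ll (-f⁻¹) * uu f).1
  rw [ww_eq hf]
  have h1 : f * f⁻¹ = 1 := mul_inv_cancel₀ hf
  simp only [Matrix.mul_fin_two, mul_one, mul_zero, add_zero, zero_add, zero_mul, one_mul, mul_neg, neg_mul, neg_neg]
  have : f * g = f ^ 2 * g * f⁻¹ := by linear_combination (-(f * g)) * h1
  rw [this]

end SL

end Cfsg.Agent.H135.RK
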